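import Mathlib.RingTheory.PowerSeries.Order
import Mathlib.RingTheory.PowerSeries.Inverse
import Mathlib.RingTheory.PowerSeries.Ideal
import Mathlib.LinearAlgebra.Dimension.StrongRankCondition
import Mathlib.Data.Set.Card
import Mathlib.Tactic

/-! Subspaces of `k⟦t⟧` of finite codimension and their sets of orders. -/

set_option autoImplicit false
universe u

namespace Groth.Agent.Branch

open PowerSeries

variable {k : Type u} [Field k]

theorem le_order_iff {f : k⟦X⟧} {n : ℕ} : (n : ℕ∞) ≤ f.order ↔ ∀ i < n, coeff i f = 0 :=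
  ⟨fun h i hi => coeff_of_lt_order i (lt_of_lt_of_le (by exact_mod_cast hi) h), nat_le_order f n⟩

theorem exists_order_eq {f : k⟦X⟧} (hf : f ≠ 0) : ∃ n : ℕ, f.order = n :=
  ⟨f.order.toNat, (coe_toNat_order hf).symm⟩

/-- The set of orders of the nonzero elements of a subspace. -/
def ordSet (V : Submodule k k⟦X⟧) : Set ℕ := {n | ∃ f ∈ V, f.order = n}

theorem exists_mem_reduce {V : Submodule k k⟦X⟧} {n : ℕ} (hn : n ∈ ordSet V) {f : k⟦X⟧}
    (hf : (n : ℕ∞) ≤ f.order) : ∃ g ∈ V, ((n + 1 : ℕ) : ℕ∞) ≤ (f - g).order := by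
  obtain ⟨h, hV, ho⟩ := hn
  have hc : coeff n h ≠ 0 := ((order_eq_nat).1 ho).1
  refine ⟨(coeff n f / coeff n h) • h, V.smul_mem _ hV, le_order_iff.2 fun i hi => ?_⟩
  rw [map_sub, map_smul, smul_eq_mul]
  rcases Nat.lt_succ_iff_lt_or_eq.1 hi with h' | rfl
  · rw [le_order_iff.1 hf i h', (order_eq_nat.1 ho).2 i h', mul_zero, sub_zero]
  · rw [div_mul_cancel₀ _ hc, sub_self]

theorem approx {V : Submodule k k⟦X⟧} {m : ℕ} (hm : ∀ n, m ≤ n → n ∈ ordSet V) {f : k⟦X⟧}
    (hf : (m : ℕ∞) ≤ f.order) (N : ℕ) : ∃ g ∈ V, (N : ℕ∞) ≤ (f - g).order := by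
  suffices ∀ j : ℕ, ∃ g ∈ V, ((m + j : ℕ) : ℕ∞) ≤ (f - g).order by
    obtain ⟨g, hg, h⟩ := this N
    exact ⟨g, hg, le_trans (by exact_mod_cast Nat.le_add_left N m) h⟩
  intro j
  induction j with
  | zero => exact ⟨0, V.zero_mem, by simpa using hf⟩
  | succ j ih =>
    obtain ⟨g, hg, h⟩ := ih
    obtain ⟨g', hg', h'⟩ := exists_mem_reduce (hm _ (Nat.le_add_right m j)) h
    exact ⟨g + g', V.add_mem hg hg', by rwa [← sub_sub]⟩

/-- A subspace containing every series of order at least `N` contains every series of order at least `m`,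
as soon as every `n ≥ m` is the order of one of its elements. -/
theorem mem_of_le_order {V : Submodule k k⟦X⟧} {m N : ℕ}
    (hN : ∀ f : k⟦X⟧, (N : ℕ∞) ≤ f.order → f ∈ V) (hm : ∀ n, m ≤ n → n ∈ ordSet V) {f : k⟦X⟧}
    (hf : (m : ℕ∞) ≤ f.order) : f ∈ V := by
  obtain ⟨g, hg, h⟩ := approx hm hf N
  simpa using V.add_mem (hN _ h) hg

theorem mem_ordSet_of_le {V : Submodule k k⟦X⟧} {N : ℕ}
    (hN : ∀ f : k⟦X⟧, (N : ℕ∞) ≤ f.order → f ∈ V) {n : ℕ} (hn : N ≤ n) : n ∈ ordSet V :=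
  ⟨X ^ n, hN _ (by rw [order_X_pow]; exact_mod_cast hn), order_X_pow n⟩

theorem finite_compl_ordSet {V : Submodule k k⟦X⟧} {N : ℕ}
    (hN : ∀ f : k⟦X⟧, (N : ℕ∞) ≤ f.order → f ∈ V) : (ordSet V)ᶜ.Finite :=
  (Set.finite_Iio N).subset fun _ hn => not_le.1 fun h => hn (mem_ordSet_of_le hN h)

/-- The codimension is the number of missing orders. -/
theorem finrank_quotient {V : Submodule k k⟦X⟧} {N : ℕ}
    (hN : ∀ f : k⟦X⟧, (N : ℕ∞) ≤ f.order → f ∈ V) :
    Module.finrank k (k⟦X⟧ ⧸ V) = (ordSet V)ᶜ.ncard := by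
  classical
  set T := (finite_compl_ordSet hN).toFinset with hT
  have hTm : ∀ n, n ∈ T ↔ n ∉ ordSet V := fun n => by rw [hT, Set.Finite.mem_toFinset]; rfl
  let v : T → k⟦X⟧ ⧸ V := fun n => Submodule.Quotient.mk (monomial (n : ℕ) (1 : k))
  have hli : LinearIndependent k v := by
    rw [Fintype.linearIndependent_iff]
    intro a ha
    have hmem : (∑ n : T, a n • monomial (n : ℕ) (1 : k)) ∈ V := by
      rw [← Submodule.Quotient.mk_eq_zero, ← ha]
      simp [v, ← Submodule.mkQ_apply]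
    set g := ∑ n : T, a n • monomial (n : ℕ) (1 : k) with hg
    have hco : ∀ m, coeff m g = if h : m ∈ T then a ⟨m, h⟩ else 0 := by
      intro m
      simp only [hg, map_sum, map_smul, coeff_monomial, smul_eq_mul, mul_ite, mul_one, mul_zero]
      split_ifs with h
      · rw [Finset.sum_eq_single ⟨m, h⟩]
        · simp
        · rintro ⟨b, hb⟩ - hne
          rw [if_neg fun e => hne (Subtype.ext e.symm)]
        · simp
      · refine Finset.sum_eq_zero fun b _ => if_neg fun e => h ?_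
        rw [e]
        exact b.2
    intro n
    by_contra hne
    have hg0 : g ≠ 0 := by
      intro h0
      have := hco (n : ℕ)
      rw [h0, map_zero, dif_pos n.2] at this
      exact hne this.symm
    obtain ⟨m, hm⟩ := exists_order_eq hg0
    have := hco m
    rw [dif_neg (fun h => (hTm m).1 h ⟨g, hmem, hm⟩)] at this
    exact (order_eq_nat.1 hm).1 this
  have hsp : ⊤ ≤ Submodule.span k (Set.range v) := by
    rintro q -
    obtain ⟨f, rfl⟩ := Submodule.Quotient.mk_surjective V q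
    suffices ∀ j : ℕ, ∃ w, Submodule.Quotient.mk w ∈ Submodule.span k (Set.range v) ∧
        (j : ℕ∞) ≤ (f - w).order by
      obtain ⟨w, hw, h⟩ := this N
      rwa [(Submodule.Quotient.eq V).2 (hN _ h)]
    intro j
    induction j with
    | zero => exact ⟨0, by simp, by simp⟩
    | succ j ih =>
      obtain ⟨w, hw, h⟩ := ih
      by_cases hj : j ∈ ordSet V
      · obtain ⟨g, hg, h'⟩ := exists_mem_reduce hj h
        refine ⟨w + g, ?_, by rwa [← sub_sub]⟩
        rwa [Submodule.Quotient.mk_add, (Submodule.Quotient.mk_eq_zero V).2 hg, add_zero]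
      · refine ⟨w + coeff j (f - w) • monomial j (1 : k), ?_, ?_⟩
        · rw [Submodule.Quotient.mk_add, Submodule.Quotient.mk_smul]
          exact add_mem hw (Submodule.smul_mem _ _
            (Submodule.subset_span ⟨⟨j, (hTm j).2 hj⟩, rfl⟩))
        · refine le_order_iff.2 fun i hi => ?_
          rw [← sub_sub, map_sub (coeff i), map_smul, smul_eq_mul, coeff_monomial]
          rcases Nat.lt_succ_iff_lt_or_eq.1 hi with h' | rfl
          · rw [if_neg h'.ne, mul_zero, sub_zero, le_order_iff.1 h i h']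
          · rw [if_pos rfl, mul_one, sub_self]
  rw [Module.finrank_eq_card_basis (Module.Basis.mk hli hsp), Fintype.card_coe,
    Set.ncard_eq_toFinset_card _ (finite_compl_ordSet hN)]

theorem X_pow_dvd_of_le_order {f : k⟦X⟧} {n : ℕ} (h : (n : ℕ∞) ≤ f.order) :
    (X : k⟦X⟧) ^ n ∣ f :=
  X_pow_dvd_iff.2 (le_order_iff.1 h)

theorem le_order_of_X_pow_dvd {f : k⟦X⟧} {n : ℕ} (h : (X : k⟦X⟧) ^ n ∣ f) :
    (n : ℕ∞) ≤ f.order :=
  le_order_iff.2 (X_pow_dvd_iff.1 h)

end Groth.Agent.Branch
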