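import Groth.Agent.Lib.Branch.Basic
import Mathlib.RingTheory.Finiteness.Basic
import Mathlib.RingTheory.PowerSeries.NoZeroDivisors
import Mathlib.Algebra.Algebra.Subalgebra.Basic

/-! Conductor of a subalgebra of `k⟦t⟧` of finite colength. -/

set_option autoImplicit false
universe u

namespace Groth.Agent.Branch

open PowerSeries

variable {k : Type u} [Field k]

theorem exists_conductor (A : Subalgebra k k⟦X⟧) [Module.Finite A k⟦X⟧]
    (hbir : ∀ f : k⟦X⟧, ∃ a ∈ A, a ≠ 0 ∧ a * f ∈ A) :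
    ∃ N : ℕ, ∀ f : k⟦X⟧, (N : ℕ∞) ≤ f.order → f ∈ Subalgebra.toSubmodule A := by
  classical
  obtain ⟨s, hs⟩ := (Module.Finite.fg_top : (⊤ : Submodule A k⟦X⟧).FG)
  choose a ha ha0 haf using hbir
  set b := ∏ g ∈ s, a g with hb
  have hb0 : b ≠ 0 := Finset.prod_ne_zero_iff.2 fun g _ => ha0 g
  have hbA : b ∈ A := prod_mem fun g _ => ha g
  have key : ∀ f : k⟦X⟧, b * f ∈ A := by
    intro f
    have hf : f ∈ Submodule.span A (s : Set k⟦X⟧) := by rw [hs]; trivial
    induction hf using Submodule.span_induction with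
    | mem g hg =>
      rw [hb, ← Finset.prod_erase_mul s a hg, mul_assoc]
      exact A.mul_mem (prod_mem fun g _ => ha g) (haf g)
    | zero => rw [mul_zero]; exact A.zero_mem
    | add x y _ _ hx hy => rw [mul_add]; exact A.add_mem hx hy
    | smul r x _ hx =>
      rw [Subalgebra.smul_def, smul_eq_mul, mul_left_comm]
      exact A.mul_mem r.2 hx
  obtain ⟨N, hN⟩ := exists_order_eq hb0
  refine ⟨N, fun f hf => ?_⟩
  obtain ⟨w, hw⟩ := X_pow_dvd_of_le_order hf
  have hu := isUnit_divided_by_X_pow_order hb0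
  obtain ⟨u, hu'⟩ := hu
  have hbX : b = X ^ N * (u : k⟦X⟧) := by
    rw [hu']
    have := X_pow_order_mul_divXPowOrder (f := b)
    rw [hN, ENat.toNat_coe] at this
    exact this.symm
  have : f = b * ((u⁻¹ : k⟦X⟧ˣ) * w) := by
    rw [hbX, hw, mul_assoc, Units.mul_inv_cancel_left]
  exact this ▸ key _

end Groth.Agent.Branch
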